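import Cfsg.Agent.H377.DegSolv.Two
import Cfsg.Agent.H670.Palfy.Five

/-!
# The pentagon is not the degree graph of a solvable group: the assembly (helper306, plan of helper670)
-/

set_option autoImplicit false
set_option linter.style.haveILetI false

namespace Cfsg.Agent.H306.Penta

open Cfsg.Agent.H670.Palfy Cfsg.Agent.H377.DegSolv Subgroup

universe u

section

variable {G : Type u} [Group G] [Finite G]

omit [Finite G] in
/-- The pentagon in a quotient. -/
theorem five_quot {p q s u r : ℕ} (h : Five p q s u r G) {M : Subgroup G} [M.Normal]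
    (hM : ∀ t ∈ [p, q, s, u, r], Rho t (G ⧸ M)) : Five p q s u r (G ⧸ M) where
  hp := h.hp
  hq := h.hq
  hs := h.hs
  hu := h.hu
  hr := h.hr
  rp := hM p (by simp)
  rq := hM q (by simp)
  rs := hM s (by simp)
  ru := hM u (by simp)
  rr := hM r (by simp)
  pq := na_quot h.pq
  qs := na_quot h.qs
  su := na_quot h.su
  ur := na_quot h.ur
  rrp := na_quot h.rrp
  nd := h.nd

omit [Finite G] in
/-- Rotate the pentagon such that a given vertex comes first. -/
theorem five_rot {p q s u r t : ℕ} (h : Five p q s u r G) (ht : t ∈ [p, q, s, u, r]) :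
    ∃ a b c d : ℕ, Five t a b c d G ∧ ∀ x, x ∈ [t, a, b, c, d] ↔ x ∈ [p, q, s, u, r] := by
  simp only [List.mem_cons, List.not_mem_nil, or_false] at ht
  rcases ht with rfl | rfl | rfl | rfl | rfl
  · exact ⟨q, s, u, r, h, fun x => Iff.rfl⟩
  · exact ⟨s, u, r, p, h.rot, fun x => by simp only [List.mem_cons, List.not_mem_nil, or_false]; tauto⟩
  · exact ⟨u, r, p, q, h.rot.rot, fun x => by simp only [List.mem_cons, List.not_mem_nil, or_false]; tauto⟩
  · exact ⟨r, p, q, s, h.rot.rot.rot, fun x => by simp only [List.mem_cons, List.not_mem_nil, or_false]; tauto⟩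
  · exact ⟨p, q, s, u, h.rot.rot.rot.rot, fun x => by
      simp only [List.mem_cons, List.not_mem_nil, or_false]; tauto⟩

omit [Finite G] in
/-- A `p`-subgroup lies in each normal subgroup of index prime to `p`. -/
theorem le_of_pgroup {p : ℕ} [hp : Fact p.Prime] {P P1 : Subgroup G} [hn : P1.Normal] (hP : IsPGroup p P)
    (hd : ¬ p ∣ P1.index) : P ≤ P1 := by
  intro x hx
  obtain ⟨k, hk⟩ := hP ⟨x, hx⟩
  have h1 : x ^ p ^ k = 1 := congrArg Subtype.val hk
  have h2 : ((x : G) : G ⧸ P1) ^ p ^ k = 1 := by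
    rw [← QuotientGroup.mk_pow, h1, QuotientGroup.mk_one]
  have h3 : ((x : G) : G ⧸ P1) ^ P1.index = 1 := by
    rw [Subgroup.index]
    exact pow_card_eq_one'
  have h4 : orderOf ((x : G) : G ⧸ P1) ∣ Nat.gcd (p ^ k) P1.index :=
    Nat.dvd_gcd (orderOf_dvd_of_pow_eq_one h2) (orderOf_dvd_of_pow_eq_one h3)
  have h5 : Nat.gcd (p ^ k) P1.index = 1 :=
    Nat.Coprime.pow_left k ((Nat.Prime.coprime_iff_not_dvd hp.out).2 hd)
  rw [h5, Nat.dvd_one, orderOf_eq_one_iff, QuotientGroup.eq_one_iff] at h4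
  exact h4

theorem nontrivial_of_rho {p : ℕ} (hp : p.Prime) (h : Rho p G) : Nontrivial G := by
  obtain ⟨e, he, hae⟩ := h
  have h4 := Nat.le_of_dvd (Nat.card_pos) (hae.trans (H681.DegBasic.dvd_card he))
  exact Finite.one_lt_card_iff_nontrivial.1 (lt_of_lt_of_le hp.one_lt h4)

theorem card_quot_lt {M : Subgroup G} (hM : M ≠ ⊥) : Nat.card (G ⧸ M) < Nat.card G := by
  have h4 : 1 < Nat.card M := (Subgroup.one_lt_card_iff_ne_bot M).2 hM
  rw [M.card_eq_card_quotient_mul_card_subgroup]
  exact lt_mul_of_one_lt_right Nat.card_pos h4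

end

theorem noPenta_aux (h1 : Penta1.{u}) (h2a : Penta2a.{u}) (h2b : Penta2b.{u}) (h2c : Penta2c.{u})
    (f1 : FactT1.{u}) (hpre : FactT2pre.{u}) (ha : FactT2a.{u}) (hb : FactT2b.{u}) (N : ℕ) :
    ∀ (G : Type u) [Group G] [Finite G], Nat.card G = N → Group.IsSolvable G →
    ∀ p q s u r : ℕ, Five p q s u r G → (∀ t : ℕ, t.Prime → Rho t G → t ∈ [p, q, s, u, r]) → False := by
  induction N using Nat.strong_induction_on with
  | _ N ih =>
    intro G _ _ hc hG p0 q0 s0 u0 r0 h0 hl0
    -- no proper quotient has the same vertices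
    have hq : ∀ (M : Subgroup G) [M.Normal], M ≠ ⊥ → ∃ t ∈ [p0, q0, s0, u0, r0], ¬ Rho t (G ⧸ M) := by
      intro M _ hM
      by_contra hcon
      push Not at hcon
      have hlt : Nat.card (G ⧸ M) < N := hc ▸ card_quot_lt hM
      have hGM : Group.IsSolvable (G ⧸ M) := inferInstance
      exact ih _ hlt (G ⧸ M) rfl hGM p0 q0 s0 u0 r0 (five_quot h0 hcon)
        fun t ht hr => hl0 t ht (rho_of_quot hr)
    have hnt : Nontrivial G := nontrivial_of_rho h0.hp h0.rp
    -- a minimal normal subgroup which is not a `p`-group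
    have key1 : ∀ (M : Subgroup G), MinN M → ∀ p q s u r : ℕ, Five p q s u r G →
        ∀ [M.Normal], ¬ Rho p (G ⧸ M) → ¬ IsPGroup p M → False := by
      intro M hM p q s u r h _ hp hPM
      obtain ⟨H, h3⟩ := f1 G hG M p h.hp hM h.rp hp hPM
      exact h1 G hG M H p q s u r h h3
    have key : ∀ (M : Subgroup G), MinN M → ∀ p q s u r : ℕ, Five p q s u r G →
        (∀ x, x ∈ [p, q, s, u, r] ↔ x ∈ [p0, q0, s0, u0, r0]) →
        ∀ [M.Normal], ¬ Rho p (G ⧸ M) → False := by
      intro M hM p q s u r h hl _ hp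
      by_cases hPM : IsPGroup p M
      swap
      · exact key1 M hM p q s u r h hp hPM
      haveI hpf : Fact p.Prime := ⟨h.hp⟩
      haveI hqf : Fact q.Prime := ⟨h.hq⟩
      haveI hrf : Fact r.Prime := ⟨h.hr⟩
      obtain ⟨P, H, h3⟩ := hpre G hG M p h.hp hM h.rp hp hPM
      haveI := h3.nrm
      have hT := T2.of hG h3 ha hb
      -- the additional hypothesis of case (a)
      have hex : ∀ M' : Subgroup G, MinN M' → M' ≤ P → M' ⊓ M = ⊥ → False := by
        intro M' hM' hle hinf
        haveI := hM'.nrm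
        obtain ⟨t, ht, htr⟩ := hq M' hM'.ne
        have hpM' : IsPGroup p M' := h3.isP.to_le hle
        by_cases htp : t = p
        · subst htp
          obtain ⟨P1, H1, h4⟩ := hpre G hG M' t h.hp hM' h.rp htr hpM'
          haveI := h4.nrm
          have e1 : P = P1 := by
            refine le_antisymm (le_of_pgroup h3.isP ?_) (le_of_pgroup h4.isP ?_)
            · rw [h4.compl.symm.index_eq_card]; exact h4.ndvd
            · rw [h3.compl.symm.index_eq_card]; exact h3.ndvd
          have e2 : M' = M := by rw [← h4.comm, ← h3.comm, e1]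
          rw [e2, inf_idem] at hinf
          exact hM.ne hinf
        · obtain ⟨a, b, c, d, h5, -⟩ := five_rot h0 ht
          haveI htf : Fact t.Prime := ⟨h5.hp⟩
          refine key1 M' hM' t a b c d h5 htr fun h6 => ?_
          have h7 := IsPGroup.disjoint_of_ne t p htp M' M' h6 hpM'
          exact hM'.ne (disjoint_self.1 h7)
      by_cases hQ : ∀ Q : Sylow q H, ¬ Triv (LC M) (Q : Subgroup H)
      · by_cases hR : ∀ R : Sylow r H, ¬ Triv (LC M) (R : Subgroup H)
        · exact h2a G hG M P H p q s u r h hT hex hQ hR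
        · push Not at hR
          obtain ⟨R0, hR0⟩ := hR
          exact h2b G hG M P H p r u s q h.symm hT (fun R => triv_conj hR0 R) hQ
      · push Not at hQ
        obtain ⟨Q0, hQ0⟩ := hQ
        by_cases hR : ∀ R : Sylow r H, ¬ Triv (LC M) (R : Subgroup H)
        · exact h2b G hG M P H p q s u r h hT (fun Q => triv_conj hQ0 Q) hR
        · push Not at hR
          obtain ⟨R0, hR0⟩ := hR
          exact h2c G hG M P H p q s u r h hT (fun Q => triv_conj hQ0 Q) (fun R => triv_conj hR0 R)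
    obtain ⟨M, hM⟩ := exists_minN (G := G)
    haveI := hM.nrm
    obtain ⟨t, ht, htr⟩ := hq M hM.ne
    obtain ⟨a, b, c, d, h5, h6⟩ := five_rot h0 ht
    exact key M hM t a b c d h5 h6 htr

/-- **The pentagon is not the degree graph of a solvable group**, from the four cases. -/
theorem noPenta_of (h1 : Penta1.{u}) (h2a : Penta2a.{u}) (h2b : Penta2b.{u}) (h2c : Penta2c.{u})
    (f1 : FactT1.{u}) (hpre : FactT2pre.{u}) (ha : FactT2a.{u}) (hb : FactT2b.{u}) : NoPenta.{u} :=
  fun G _ _ hG p q s u r h hl => noPenta_aux h1 h2a h2b h2c f1 hpre ha hb _ G rfl hG p q s u r h hl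

end Cfsg.Agent.H306.Penta
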